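import Cfsg.Agent.Lib.Bender.Full.FpfFree.Main
import Cfsg.Agent.Lib.Bender.Full.AbelianStab
import Cfsg.Agent.Lib.Bender.Full.Galois

/-!
# The fixed point free case with a regular group: the stabilizers

The part of `stabT` in the `s`-complement of `L ⊓ D` is centralized by `z`, and the normalizer of a
`p`-subgroup of it centralizes the part of `P` that this subgroup centralizes (`LocalData.galois`).
-/

set_option autoImplicit false
set_option linter.style.haveILetI false
set_option linter.unusedSectionVars false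

namespace CfsgLib.Bender.Full

open Subgroup MulAction
open CfsgLib.Coprime (conjBy)
open CfsgLib.Invol (invol_conj invol_ne_one)

universe u

variable {G : Type u} [Group G] [Finite G] {H : Subgroup G}

namespace Fpf

variable {x : G ⧸ H} {L P R : Subgroup G} {s : ℕ} {z t w : G}

/-- A `p`-subgroup centralizing `z`, `t` and an element of `P`: what normalizes it and commutes with
`t` and has order prime to `s` centralizes that element. -/
theorem commute_of_normalizes (F : Fpf H x L P s z t w) (hfree : ∀ a ∈ P, Commute a t → a = 1)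
    {p : ℕ} (hp : p.Prime) (hpm : ¬ p ∣ numInv H) {Y : Subgroup G} (hYD : Y ≤ pairStab (base H) x)
    (hY1 : Y ≠ ⊥) (hY : IsPGroup p Y) (hYt : ∀ y ∈ Y, Commute y t) (hYz : ∀ y ∈ Y, Commute y z)
    {g : G} (hgD : g ∈ pairStab (base H) x) (hgY : g ∈ normalizer (Y : Set G)) (hgt : Commute g t)
    (hgs : (orderOf g).Coprime s) {b : G} (hb : b ∈ P) (hYb : ∀ y ∈ Y, Commute y b) :
    Commute g b := by
  haveI := Fact.mk hp
  haveI := Fact.mk F.prime
  rcases eq_or_ne b 1 with rfl | hb1
  · exact Commute.one_right g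
  have h := F.setting
  have hbH : b ∈ H := F.P_le_H hb
  set u := b * t * b⁻¹ with hu
  have huo : orderOf u = 2 := invol_conj F.t_order b
  have huH : u ∈ H := H.mul_mem (H.mul_mem hbH F.t_mem) (H.inv_mem hbH)
  have hut : u ≠ t := fun e => hb1 (hfree b hb (mul_inv_eq_iff_eq_mul.1 e))
  have htA : t ∈ centralizer (Y : Set G) := mem_centralizer_iff.2 fun y hy => (hYt y hy).eq
  have huA : u ∈ centralizer (Y : Set G) := mem_centralizer_iff.2 fun y hy => by
    have h1 : Commute y u := ((hYb y hy).mul_right (hYt y hy)).mul_right (hYb y hy).inv_right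
    exact h1.eq
  have hta : t • base H = base H := smul_base.2 F.t_mem
  have hab : base H ∈ fixSet Y H := hYD.trans inf_le_left
  have hax : x ∈ fixSet Y H := hYD.trans inf_le_right
  have h3 := h.three_of_not_dvd hpm F.ne.symm hY hYD
  have hN : Nonlonely Y := by
    by_contra hcon
    obtain ⟨v, hv, hvx, hvY⟩ := h.exists_invol_centralizing hY hax h3
    exact hut (h.eq_of_lonely (lonely_of_not_nonlonely hcon) huo F.t_order huA htA (smul_base.2 huH)
      hta hv hvY fun e => F.ne (CfsgLib.Invol.fixed_unique h.se hv hvx e))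
  obtain ⟨Q, hQ⟩ := h.exists_localData hY hY1 hN hab h3
  have hzY : z ∈ normalizer (Y : Set G) :=
    centralizer_le_normalizer _ (mem_centralizer_iff.2 fun y hy => (hYz y hy).eq)
  have hzD : zpowers z ≤ normalizer (Y : Set G) ⊓ pairStab (base H) x :=
    zpowers_le.2 ⟨hzY, F.z_mem.2⟩
  have hzt : zpowers z ≤ centralizer ({t} : Set G) :=
    zpowers_le.2 (mem_centralizer_singleton_iff.2 F.t_comm.eq.symm)
  obtain ⟨-, -, hgal⟩ := hQ.galois h hab hax F.ne h3 hY hN F.t_order htA hta hzD hzt (mem_zpowers z)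
    F.z_order (fun v hv hva hvz => F.t_unique v (smul_base.1 hva) hv hvz) (by
      intro r hr hr1
      refine ⟨u, huo, huA, smul_base.2 huH, fun hur => hut ?_⟩
      obtain ⟨j, hj⟩ : z ∈ zpowers r := by
        have e : orderOf r = s := by
          refine ((Nat.dvd_prime F.prime).1 ?_).resolve_left (by rwa [orderOf_eq_one_iff])
          rw [← F.z_order, ← Nat.card_zpowers, ← Nat.card_zpowers]
          exact card_dvd_of_le (zpowers_le.2 hr)
        rw [Subgroup.eq_of_le_of_card_ge (zpowers_le.2 hr)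
          (by rw [Nat.card_zpowers, Nat.card_zpowers, e, F.z_order])]
        exact mem_zpowers z
      exact F.t_unique u huH huo (by rw [← hj]; exact hur.zpow_right j))
  have hgu := hgal g ⟨hgY, hgD⟩ hgt hgs u huo huA (smul_base.2 huH)
  have hgb : g * b * g⁻¹ ∈ P := (mem_normalizer_iff.1 (F.pair_le_normalizer hfree hgD) b).1 hb
  have h1 : b⁻¹ * (g * b * g⁻¹) = 1 := by
    refine hfree _ (P.mul_mem (P.inv_mem hb) hgb) (mul_inv_eq_iff_eq_mul.1 ?_)
    calc b⁻¹ * (g * b * g⁻¹) * t * (b⁻¹ * (g * b * g⁻¹))⁻¹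
        = b⁻¹ * (g * b * (g⁻¹ * t * g) * b⁻¹ * g⁻¹) * b := by group
      _ = b⁻¹ * (g * u * g⁻¹) * b := by
          rw [show g⁻¹ * t * g = t by rw [mul_assoc, ← hgt.eq, inv_mul_cancel_left], hu]; group
      _ = t := by rw [hgu.eq, mul_inv_cancel_right, hu]; group
  exact (mul_inv_eq_iff_eq_mul.1 (inv_mul_eq_one.1 h1).symm)

variable (F : Fpf H x L P s z t w) (C : Cyc H x L R s z t)
include F C

/-- The stabilizers of the elements of `P ⊓ involGen H`. -/
theorem exists_stab (hfree : ∀ a ∈ P, Commute a t → a = 1) :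
    ∃ C0 : Subgroup G, C0 ≤ F.stabT ∧ F.stabT ≤ normalizer (C0 : Set G) ∧
      ∀ a ∈ P ⊓ involGen H, a ≠ 1 → F.stabT ⊓ centralizer ({a} : Set G) ≤ C0 ∧
        (IsMulCommutative ↥(F.stabT ⊓ centralizer ({a} : Set G)) ∨
          F.stabT ⊓ centralizer ({a} : Set G) = C0) := by
  haveI := C.fact
  obtain ⟨K, -, hKs, hKmem, hKn, -⟩ := C.exists_kernel
  set N := involGen H with hN
  set D := pairStab (base H) x with hD
  have hST : F.stabT = N ⊓ D ⊓ centralizer ({t} : Set G) := rfl
  set C0 := F.stabT ⊓ K with hC0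
  have hSD : F.stabT ≤ D := inf_le_left.trans inf_le_right
  have hNn : ∀ {g : G}, g ∈ D → g ∈ normalizer (N : Set G) := fun hg =>
    le_normalizer_involGen H (pairStab_base_le H x hg)
  have hnormS : ∀ {g : G}, g ∈ D → Commute g t → g ∈ normalizer (C0 : Set G) := by
    intro g hg hgt
    have key : ∀ g : G, g ∈ D → Commute g t → ∀ y ∈ C0, g * y * g⁻¹ ∈ C0 := by
      rintro g hg hgt y ⟨⟨⟨hy1, hy2⟩, hy3⟩, hy4⟩
      have hgC : g ∈ centralizer ({t} : Set G) := mem_centralizer_singleton_iff.2 hgt.eq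
      exact ⟨⟨⟨(mem_normalizer_iff.1 (hNn hg) y).1 hy1, D.mul_mem (D.mul_mem hg hy2) (D.inv_mem hg)⟩,
        Subgroup.mul_mem _ (Subgroup.mul_mem _ hgC hy3) (Subgroup.inv_mem _ hgC)⟩,
        (mem_normalizer_iff.1 (hKn hg) y).1 hy4⟩
    exact mem_normalizer_iff.2 fun y => ⟨key g hg hgt y, fun hy => by
      simpa [mul_assoc] using key g⁻¹ (inv_mem hg) hgt.inv_left _ hy⟩
  have hC0n : F.stabT ≤ normalizer (C0 : Set G) := fun g hg =>
    hnormS (hSD hg) (mem_centralizer_singleton_iff.1 hg.2)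
  set M := P ⊓ N with hM
  haveI hMc : IsMulCommutative M :=
    ⟨⟨fun a b => Subtype.ext (F.commute_P hfree a.2.1 b.2.1).eq⟩⟩
  have hDM : D ≤ normalizer (M : Set G) := fun g hg => mem_normalizer_iff.2 fun y =>
    and_congr (mem_normalizer_iff.1 (F.pair_le_normalizer hfree hg) y)
      (mem_normalizer_iff.1 (hNn hg) y)
  have hC0D : C0 ≤ D := inf_le_left.trans hSD
  have hodd : Odd (Nat.card C0) :=
    (odd_pairStab F.setting.se F.ne.symm).of_dvd_nat (card_dvd_of_le hC0D)
  have hMm : Nat.card M ∣ numInv H := F.card_P hfree ▸ card_dvd_of_le inf_le_left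
  have hprime : ∀ {r : ℕ}, r.Prime → r ∣ Nat.card C0 → ¬ r ∣ numInv H := by
    intro r hr hrC hrm
    haveI := Fact.mk hr
    obtain ⟨c, hc⟩ := exists_prime_orderOf_dvd_card' (G := C0) r hrC
    refine F.eq_one_of_prime_order hfree (c := (c : G)) c.2.1 (by rw [orderOf_coe, hc]; exact hr) ?_
    rw [orderOf_coe, hc]
    exact hrm
  have hcop : (Nat.card M).Coprime (Nat.card C0) :=
    Nat.coprime_of_dvd fun r hr hrM hrC => hprime hr hrC (hrM.trans hMm)
  have hsC : ¬ s ∣ Nat.card C0 := fun h => hKs (h.trans (card_dvd_of_le inf_le_right))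
  -- `C0` is faithful on `M`, so `z` centralizes it
  have hfaith : ∀ c ∈ C0, (∀ b ∈ M, Commute c b) → c = 1 := by
    intro c hc hcb
    have hct : Commute c t := mem_centralizer_singleton_iff.1 hc.1.2
    refine (eq_bot_iff_forall _).1 F.centralizer_involGen c
      ⟨pairStab_base_le H x (hC0D hc), mem_centralizer_iff.2 fun n hn => ?_⟩
    haveI := F.isSimple
    set S : Subgroup N := (centralizer ({c} : Set G)).subgroupOf N
    rcases (inferInstance : (normalClosure ({⟨t, F.t_mem_involGen⟩} : Set N)).Normal).eq_bot_or_eq_top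
      with e | e
    · have h1 : (⟨t, F.t_mem_involGen⟩ : N) ∈ (⊥ : Subgroup N) :=
        e ▸ subset_normalClosure (Set.mem_singleton _)
      exact absurd (congrArg Subtype.val (mem_bot.1 h1)) (invol_ne_one F.t_order)
    have hle : normalClosure ({⟨t, F.t_mem_involGen⟩} : Set N) ≤ S := (closure_le _).2 fun v hv => by
      obtain ⟨_, rfl, hv'⟩ := Group.mem_conjugatesOfSet_iff.1 hv
      obtain ⟨k, rfl⟩ := isConj_iff.1 hv'
      obtain ⟨a, ha, hak⟩ := F.exists_conj_inf k.2
      refine mem_centralizer_singleton_iff.2 ?_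
      show (k : G) * t * (k : G)⁻¹ * c = c * ((k : G) * t * (k : G)⁻¹)
      rw [← hak]
      exact ((((hcb a ha).mul_right hct).mul_right (hcb a ha).inv_right).eq).symm
    exact mem_centralizer_singleton_iff.1 (hle (e ▸ mem_top (⟨n, hn⟩ : N)))
  have hs2 : s ≠ 2 := fun e => by
    have := C.odd_prime
    rw [e] at this
    exact absurd even_two (Nat.not_even_iff_odd.2 this)
  have hsz : ∀ c ∈ C0, Commute c z := commute_of_fpf (M := M) hodd (hC0D.trans hDM) hcop hfaith
    F.prime hs2 F.z_order (hDM F.z_mem.2) (hnormS F.z_mem.2 F.t_comm.symm) hsC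
    (fun h => F.not_dvd (h.trans hMm)) fun b hb hzb => F.z_free b hb.1 hzb.symm
  have hnorm : ∀ (p : ℕ), p.Prime → ∀ Y : Subgroup G, Y ≤ C0 → Y ≠ ⊥ → IsPGroup p Y → ∀ g ∈ C0,
      g ∈ normalizer (Y : Set G) → ∀ b ∈ M, (∀ y ∈ Y, Commute y b) → Commute g b := by
    intro p hp Y hY hY1 hYp g hg hgY b hb hYb
    haveI := Fact.mk hp
    obtain ⟨k, hk⟩ := IsPGroup.iff_card.1 hYp
    have hk0 : k ≠ 0 := fun e => hY1 (Subgroup.card_eq_one.1 (by rw [hk, e, pow_zero]))
    refine F.commute_of_normalizes hfree hp (hprime hp ((dvd_pow_self p hk0).trans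
        (hk ▸ card_dvd_of_le hY))) (hY.trans hC0D) hY1 hYp
      (fun y hy => mem_centralizer_singleton_iff.1 (hY hy).1.2) (fun y hy => hsz y (hY hy)) (hC0D hg)
      hgY (mem_centralizer_singleton_iff.1 hg.1.2) ?_ hb.1 hYb
    exact Nat.Coprime.coprime_dvd_left (Subgroup.orderOf_dvd_natCard _ hg)
      ((Nat.Prime.coprime_iff_not_dvd F.prime).2 hsC).symm
  refine ⟨C0, inf_le_left, hC0n, fun a ha ha1 => ?_⟩
  -- no element of order `s` fixes a non-identity element of `P`
  have hle : F.stabT ⊓ centralizer ({a} : Set G) ≤ C0 := by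
    rintro g ⟨hg, hga⟩
    refine ⟨hg, hKmem g ⟨F.layer.involGen_le hg.1.1, hg.1.2⟩ fun hsg => ?_⟩
    set v := g ^ (orderOf g / s) with hv
    have hvo : orderOf v = s := orderOf_pow_orderOf_div (orderOf_pos g).ne' hsg
    have hvE : v ∈ L ⊓ D := pow_mem (show g ∈ L ⊓ D from ⟨F.layer.involGen_le hg.1.1, hg.1.2⟩) _
    obtain ⟨e, he, hle⟩ := exists_conjBy_le (r := s) (Q := zpowers v)
      (IsPGroup.of_card (n := 1) (by rw [Nat.card_zpowers, hvo, pow_one])) (zpowers_le.2 hvE) C.sylow
    have h1 : e * v * e⁻¹ ∈ zpowers z := C.mem_zpowers_of_pow (hle ⟨v, mem_zpowers v, rfl⟩)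
      (by rw [conj_pow, ← hvo, pow_orderOf_eq_one, mul_one, mul_inv_cancel])
    have hzv : z ∈ zpowers (e * v * e⁻¹) := by
      rw [Subgroup.eq_of_le_of_card_ge (zpowers_le.2 h1) (by
        rw [Nat.card_zpowers, Nat.card_zpowers, show e * v * e⁻¹ = MulAut.conj e v from rfl,
          MulEquiv.orderOf_eq, hvo, F.z_order])]
      exact mem_zpowers z
    obtain ⟨j, hj⟩ := hzv
    have hga' : Commute g a := mem_centralizer_singleton_iff.1 hga
    have hva : Commute v a := hga'.pow_left _
    have hea : Commute (e * a * e⁻¹) z := by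
      rw [← hj]
      exact ((Commute.conj_iff e).2 hva.symm).zpow_right j
    have heP : e * a * e⁻¹ ∈ P := (mem_normalizer_iff.1 (F.pair_le_normalizer hfree he.2) a).1 ha.1
    exact ha1 (conj_eq_one_iff.1 (F.z_free _ heP hea))
  have heq : F.stabT ⊓ centralizer ({a} : Set G) = C0 ⊓ centralizer ({a} : Set G) :=
    le_antisymm (le_inf hle inf_le_right) (inf_le_inf_right _ inf_le_left)
  refine ⟨hle, ?_⟩
  rw [heq]
  exact stabilizer_abelian hodd (hC0D.trans hDM) hcop hnorm ha

/-- The fixed point free case with a regular group is impossible. -/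
theorem false_of_free (hfree : ∀ a ∈ P, Commute a t → a = 1) : False :=
  F.false_of_free_of_stab hfree (exists_stab F C hfree)

end Fpf

end CfsgLib.Bender.Full
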