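import Cfsg.Agent.Lib.Bender.Full.Simple
import Cfsg.Agent.Lib.Bender.Full.Cyclic.ToFpf
import Cfsg.Agent.Lib.Coprime.FpfAction
import Cfsg.Agent.Lib.ProdFusion.Direct

/-!
# The fixed point free case with a regular group: basic facts

If only the identity of `P` commutes with `t`, then `P` is regular on the involutions at the base point,
is inverted by `w`, consists of all elements of `D` inverted by `w` and is normal in `D`.  Its part in
`involGen H` is regular on the class of `t` there and is a TI subgroup.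
-/

set_option autoImplicit false
set_option linter.style.haveILetI false
set_option linter.unusedSectionVars false

namespace CfsgLib.Bender.Full

open Subgroup MulAction
open CfsgLib.Coprime (conjBy)
open CfsgLib.Invol (invol_conj invol_inv invol_mul_self invol_smul_smul invol_ne_one)

universe u

variable {G : Type u} [Group G] [Finite G] {H : Subgroup G}

/-- The index of the parts in a normalized subgroup divides the index. -/
theorem relIndex_inf_dvd {A B N : Subgroup G} (hBN : B ≤ normalizer (N : Set G)) :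
    (A ⊓ N).relIndex (B ⊓ N) ∣ A.relIndex B := by
  haveI : ((B ⊓ N).subgroupOf B).Normal := normal_subgroupOf_of_le_normalizer fun b hb =>
    mem_normalizer_iff.2 fun y => and_congr (mem_normalizer_iff.1 (le_normalizer hb) y)
      (mem_normalizer_iff.1 (hBN hb) y)
  have h1 := CfsgLib.ProdFusion.relIndex_dvd_of_normal (A.subgroupOf B) ((B ⊓ N).subgroupOf B)
  rw [relIndex_subgroupOf inf_le_left] at h1
  rw [← inf_relIndex_right, show (A ⊓ N) ⊓ (B ⊓ N) = A ⊓ (B ⊓ N) from
    le_antisymm (le_inf (inf_le_left.trans inf_le_left) inf_le_right)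
      (le_inf (le_inf inf_le_left (inf_le_right.trans inf_le_right)) inf_le_right), inf_relIndex_right]
  exact h1

namespace Fpf

variable {x : G ⧸ H} {L P : Subgroup G} {s : ℕ} {z t w : G} (F : Fpf H x L P s z t w)
include F

/-- The stabilizer of `t` in `involGen H` and the pair. -/
def stabT (_F : Fpf H x L P s z t w) : Subgroup G :=
  involGen H ⊓ pairStab (base H) x ⊓ centralizer ({t} : Set G)

theorem card_P (hfree : ∀ a ∈ P, Commute a t → a = 1) : Nat.card P = numInv H := by
  have h1 : (centralizer ({t} : Set G)).relIndex P = numInv H := by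
    rw [numInv]
    exact relIndex_eq_card ⟨F.t_order, F.t_mem⟩ (fun p hp => ⟨invol_conj F.t_order p,
      H.mul_mem (H.mul_mem (F.P_le_H hp) F.t_mem) (H.inv_mem (F.P_le_H hp))⟩)
      fun v hv => F.trans v hv.2 hv.1
  have h2 : centralizer ({t} : Set G) ⊓ P = ⊥ := (eq_bot_iff_forall _).2 fun a ha =>
    hfree a ha.2 (mem_centralizer_singleton_iff.1 ha.1)
  rw [← inf_relIndex_right, h2, relIndex_bot_left] at h1
  exact h1

theorem odd_P : Odd (Nat.card P) :=
  (odd_pairStab F.setting.se F.ne.symm).of_dvd_nat (card_dvd_of_le (F.P_le.trans inf_le_right))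

theorem conj_w_swap {p : G} (hp : p ∈ pairStab (base H) x) :
    orderOf (p * w * p⁻¹) = 2 ∧ (p * w * p⁻¹) • base H = x := by
  refine ⟨invol_conj F.w_order p, ?_⟩
  rw [mul_smul, mul_smul, inv_smul_eq_iff.2 (mem_stabilizer_iff.1 hp.1).symm, F.w_swap,
    mem_stabilizer_iff.1 hp.2]

theorem not_commute_w (hfree : ∀ a ∈ P, Commute a t → a = 1) {a : G} (ha : a ∈ P)
    (haw : Commute a w) : a = 1 := by
  have h1 : (centralizer ({w} : Set G)).relIndex P = numInv H := by
    rw [numInv, ← CfsgLib.Invol.card_swap_eq F.setting.se _ _ F.ne.symm]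
    exact relIndex_eq_card ⟨F.w_order, F.w_swap⟩ (fun p hp => F.conj_w_swap (F.P_le hp).2)
      fun v hv => F.swap_trans v hv.1 hv.2
  have h2 := relIndex_mul_card_inf (centralizer ({w} : Set G)) P
  rw [h1, F.card_P hfree] at h2
  have hm : 0 < numInv H := F.card_P hfree ▸ Nat.card_pos
  have h3 : Nat.card ↥(centralizer ({w} : Set G) ⊓ P) = 1 :=
    Nat.eq_of_mul_eq_mul_left hm (h2.trans (mul_one _).symm)
  exact mem_bot.1 (card_eq_one.1 h3 ▸ ⟨mem_centralizer_singleton_iff.2 haw.eq, ha⟩)

theorem inverts (hfree : ∀ a ∈ P, Commute a t → a = 1) : ∀ a ∈ P, w * a * w⁻¹ = a⁻¹ := by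
  refine CfsgLib.Coprime.IsFpfOn.involution_inverts (A := zpowers w) (zpowers_le.2 F.w_norm) ?_
    (mem_zpowers w) F.w_order
  rintro _ ⟨k, rfl⟩ hk
  have hw2 : w ^ (2 : ℤ) = 1 := by rw [zpow_two, invol_mul_self F.w_order]
  have hk' : w ^ k = w := by
    rcases Int.even_or_odd k with ⟨j, rfl⟩ | ⟨j, rfl⟩
    · exact absurd (show w ^ (j + j) = 1 by rw [← two_mul, zpow_mul, hw2, one_zpow]) hk
    · rw [zpow_add, zpow_mul, hw2, one_zpow, one_mul, zpow_one]
  refine (eq_bot_iff_forall _).2 fun a ha => F.not_commute_w hfree ha.1 ?_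
  show a * w = w * a
  rw [← hk']
  exact mem_centralizer_singleton_iff.1 ha.2

theorem commute_P (hfree : ∀ a ∈ P, Commute a t → a = 1) {a b : G} (ha : a ∈ P) (hb : b ∈ P) :
    Commute a b := by
  have h1 := F.inverts hfree _ (P.mul_mem ha hb)
  have h2 : w * (a * b) * w⁻¹ = a⁻¹ * b⁻¹ := by
    rw [← F.inverts hfree a ha, ← F.inverts hfree b hb]; group
  have h3 := h2.symm.trans h1
  rw [← mul_inv_rev, inv_inj] at h3
  exact h3.symm

/-- `P` is the set of elements of the pair inverted by `w`. -/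
theorem mem_P_of_inverted (hfree : ∀ a ∈ P, Commute a t → a = 1) {f : G}
    (hf : f ∈ pairStab (base H) x) (hinv : w * f * w⁻¹ = f⁻¹) : f ∈ P := by
  have hwi : w⁻¹ = w := invol_inv F.w_order
  have hfw : (f * w) • base H = x := by rw [mul_smul, F.w_swap, mem_stabilizer_iff.1 hf.2]
  have ho : orderOf (f * w) = 2 := by
    refine CfsgLib.Invol.invol_iff.2 ⟨?_, fun e => ?_⟩
    · rw [show f * w * (f * w) = f * (w * f * w⁻¹) by rw [hwi]; group, hinv, mul_inv_cancel]
    · rw [e, one_smul] at hfw; exact F.ne hfw.symm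
  obtain ⟨p, hp, hpw⟩ := F.swap_trans _ ho hfw
  have h1 : w * p⁻¹ = p * w := by
    have h2 := F.inverts hfree p⁻¹ (P.inv_mem hp)
    rw [inv_inv] at h2
    exact mul_inv_eq_iff_eq_mul.1 h2
  have h3 : f * w = p * p * w := by
    rw [← hpw, mul_assoc p w, h1, mul_assoc]
  rw [mul_right_cancel h3]
  exact P.mul_mem hp hp

theorem pair_le_normalizer (hfree : ∀ a ∈ P, Commute a t → a = 1) :
    pairStab (base H) x ≤ normalizer (P : Set G) := fun d hd => mem_normalizer_fintype fun a ha => by
  obtain ⟨h1, h2⟩ := F.conj_w_swap hd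
  obtain ⟨p, hp, hpd⟩ := F.swap_trans _ h1 h2
  set c := p⁻¹ * d with hc
  have hcD : c ∈ pairStab (base H) x := mul_mem (inv_mem (F.P_le hp).2) hd
  have hcw : c * w * c⁻¹ = w := by
    rw [hc, show p⁻¹ * d * w * (p⁻¹ * d)⁻¹ = p⁻¹ * (d * w * d⁻¹) * p by group, ← hpd]; group
  have hmem : c * a * c⁻¹ ∈ P := by
    refine F.mem_P_of_inverted hfree (mul_mem (mul_mem hcD (F.P_le ha).2) (inv_mem hcD)) ?_
    nth_rewrite 1 [← hcw]
    nth_rewrite 2 [← hcw]
    rw [show c * w * c⁻¹ * (c * a * c⁻¹) * (c * w * c⁻¹)⁻¹ = c * (w * a * w⁻¹) * c⁻¹ by group,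
      F.inverts hfree a ha]
    group
  show d * a * d⁻¹ ∈ P
  rw [show d * a * d⁻¹ = p * (c * a * c⁻¹) * p⁻¹ by rw [hc]; group]
  exact P.mul_mem (P.mul_mem hp hmem) (P.inv_mem hp)

theorem involGen_le_normalizer : H ≤ normalizer (involGen H : Set G) := le_normalizer_involGen H

theorem t_mem_involGen : t ∈ involGen H := F.invol_mem_involGen F.t_order F.t_mem

/-- A non-identity element of `P` fixes only the two points. -/
theorem fix_of_mem (hfree : ∀ a ∈ P, Commute a t → a = 1) {a : G} (ha : a ∈ P) (ha1 : a ≠ 1)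
    {c : G ⧸ H} (hc : a • c = c) : c = base H ∨ c = x :=
  F.setting.fix_of_inverted F.ne.symm F.w_order F.w_swap (F.P_le ha).2 ha1 (F.inverts hfree a ha) hc

/-- No involution at the base point centralizes a non-identity element of `P`. -/
theorem not_commute_invol (hfree : ∀ a ∈ P, Commute a t → a = 1) {a u : G} (ha : a ∈ P) (ha1 : a ≠ 1)
    (hu : orderOf u = 2) : ¬ Commute a u := fun hau =>
  F.setting.not_commute_of_inverted F.ne.symm F.w_order F.w_swap (F.P_le ha).2 ha1
    (F.inverts hfree a ha) hu hau.symm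

/-- The TI property. -/
theorem mem_pair_of_conj (hfree : ∀ a ∈ P, Commute a t → a = 1) {g a : G} (hg : g ∈ H) (ha : a ∈ P)
    (ha1 : a ≠ 1) (hga : g * a * g⁻¹ ∈ P) : g ∈ pairStab (base H) x := by
  have hgb : g • base H = base H := smul_base.2 hg
  have h1 : (g * a * g⁻¹) • g • x = g • x := by
    rw [← mul_smul, inv_mul_cancel_right, mul_smul, mem_stabilizer_iff.1 (F.P_le ha).2.2]
  rcases F.fix_of_mem hfree hga (fun e => ha1 (conj_eq_one_iff.1 e)) h1 with e | e
  · exact absurd (smul_left_cancel g (e.trans hgb.symm)) F.ne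
  · exact ⟨mem_stabilizer_iff.2 hgb, mem_stabilizer_iff.2 e⟩

/-- `P ⊓ involGen H` is transitive on the class of `t`. -/
theorem exists_conj_inf {n : G} (hn : n ∈ involGen H) :
    ∃ a ∈ P ⊓ involGen H, a * t * a⁻¹ = n * t * n⁻¹ := by
  set N := involGen H with hN
  set p : G → Prop := fun v => ∃ k ∈ N, k * t * k⁻¹ = v with hp
  have hND : N ≤ L := F.layer.involGen_le
  have hNH : N ≤ H := involGen_le H
  refine exists_conj_of_coprime (K := N) (P := P ⊓ N) inf_le_right (u := t) (p := p)
    ⟨1, N.one_mem, by group⟩ (fun k hk => ⟨k, hk, rfl⟩) (fun v hv => hv) ?_ _ ⟨n, hn, rfl⟩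
  have h1 : (centralizer ({t} : Set G)).relIndex N = Nat.card {v : G // p v} :=
    relIndex_eq_card ⟨1, N.one_mem, by group⟩ (fun k hk => ⟨k, hk, rfl⟩) fun v hv => hv
  have h2 : Nat.card {v : G // p v} ∣ numInv H := by
    have h3 := relIndex_inf_dvd (A := centralizer ({t} : Set G)) (B := H) (N := N)
      (le_normalizer_involGen H)
    rw [inf_eq_right.2 hNH, inf_relIndex_right, h1] at h3
    refine h3.trans (dvd_of_eq ?_)
    rw [numInv]
    exact relIndex_eq_card ⟨F.t_order, F.t_mem⟩ (fun k hk => ⟨invol_conj F.t_order k,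
      H.mul_mem (H.mul_mem hk F.t_mem) (H.inv_mem hk)⟩) fun v hv => by
        obtain ⟨q, hq, hqv⟩ := F.trans v hv.2 hv.1
        exact ⟨q, F.P_le_H hq, hqv⟩
  refine Nat.Coprime.coprime_dvd_right h2 (Nat.coprime_of_dvd fun r hr hrd hrm => ?_)
  haveI : Fact r.Prime := ⟨hr⟩
  set D := pairStab (base H) x with hD
  have h4 : (P ⊓ N).relIndex (D ⊓ N) ∣ P.relIndex (L ⊓ D) := by
    have h5 := relIndex_inf_dvd (A := P) (B := L ⊓ D) (N := N)
      ((inf_le_right.trans (pairStab_base_le H x)).trans (le_normalizer_involGen H))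
    rwa [show L ⊓ D ⊓ N = D ⊓ N from
      le_antisymm (le_inf (inf_le_left.trans inf_le_right) inf_le_right)
        (le_inf (le_inf (inf_le_right.trans hND) inf_le_left) inf_le_right)] at h5
  have h6 : (D ⊓ N).relIndex N ∣ D.relIndex H := by
    have h5 := relIndex_inf_dvd (A := D) (B := H) (N := N) (le_normalizer_involGen H)
    rwa [inf_eq_right.2 hNH] at h5
  rw [← relIndex_mul_relIndex (P ⊓ N) (D ⊓ N) N
    (inf_le_inf_right _ (F.P_le.trans inf_le_right)) inf_le_right] at hrd
  rcases hr.dvd_mul.1 hrd with h | h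
  · exact F.P_hall r hr hrm (h.trans h4)
  · have h7 := F.setting.not_dvd_index (p := r) hrm F.ne.symm
    rw [stabilizer_base] at h7
    exact h7 (h.trans h6)

/-- An element of the pair in `involGen H` commuting with `t` has order prime to the class. -/
theorem eq_one_of_prime_order (hfree : ∀ a ∈ P, Commute a t → a = 1) {c : G}
    (hc : c ∈ F.stabT) (hco : (orderOf c).Prime) : ¬ orderOf c ∣ numInv H := by
  intro hrm
  set N := involGen H with hN
  set D := pairStab (base H) x with hD
  have hDn : D ⊓ N ≤ normalizer ((P ⊓ N : Subgroup G) : Set G) := fun d hd =>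
    mem_normalizer_iff.2 fun y => and_congr (mem_normalizer_iff.1 (F.pair_le_normalizer hfree hd.1) y)
      (mem_normalizer_iff.1 (le_normalizer hd.2) y)
  haveI : ((P ⊓ N).subgroupOf (D ⊓ N)).Normal := normal_subgroupOf_of_le_normalizer hDn
  have hnd : ¬ orderOf c ∣ (P ⊓ N).relIndex (D ⊓ N) := fun h => by
    have h5 := relIndex_inf_dvd (A := P) (B := L ⊓ D) (N := N)
      ((inf_le_right.trans (pairStab_base_le H x)).trans (le_normalizer_involGen H))
    rw [show L ⊓ D ⊓ N = D ⊓ N from
      le_antisymm (le_inf (inf_le_left.trans inf_le_right) inf_le_right)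
        (le_inf (le_inf (inf_le_right.trans F.layer.involGen_le) inf_le_left) inf_le_right)] at h5
    exact F.P_hall _ hco hrm (h.trans h5)
  have hcm : c ∈ D ⊓ N := ⟨hc.1.2, hc.1.1⟩
  have h1 := pow_index_mem ((P ⊓ N).subgroupOf (D ⊓ N)) (⟨c, hcm⟩ : ↥(D ⊓ N))
  obtain ⟨k, hk⟩ := exists_pow_eq_self_of_coprime (x := c)
    (n := ((P ⊓ N).subgroupOf (D ⊓ N)).index) ((hco.coprime_iff_not_dvd.2 hnd).symm)
  have hcP : c ∈ P := by
    rw [← hk]
    exact P.pow_mem (mem_inf.1 h1).1 k
  have := hfree c hcP (mem_centralizer_singleton_iff.1 hc.2)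
  rw [this, orderOf_one] at hco
  exact Nat.not_prime_one hco

end Fpf

end CfsgLib.Bender.Full
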