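import Cfsg.Agent.Lib.Bender.Full.FpfFree.Basic
import Cfsg.Agent.Lib.Bender.Full.PermM
import Cfsg.Agent.Lib.Invol.ZStar

/-!
# The fixed point free case with a regular group is impossible

The centralizer of `t` in the simple group `involGen H` is transitive on the other conjugates of `t`
(`centralizer_trans`): either all commute, or `t` is isolated and central by the Z*-theorem.
-/

set_option autoImplicit false
set_option linter.style.haveILetI false
set_option linter.unusedSectionVars false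

namespace CfsgLib.Bender.Full

open Subgroup MulAction

universe u

variable {G : Type u} [Group G] [Finite G] {H : Subgroup G}

/-- In a simple non-abelian group no class of involutions commutes, and no involution is isolated. -/
theorem false_of_class_dichotomy {N : Type u} [Group N] [Finite N] [IsSimpleGroup N]
    (hna : ¬ IsMulCommutative N) {t : N} (ht : orderOf t = 2)
    (htr : ∀ u v : N, IsConj t u → u ≠ t → IsConj t v → v ≠ t →
      ∃ c ∈ centralizer ({t} : Set N), c * u * c⁻¹ = v) : False := by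
  have ht1 : t ≠ 1 := CfsgLib.Invol.invol_ne_one ht
  have hcen : t ∉ center N := fun h => by
    rcases (inferInstance : (center N).Normal).eq_bot_or_eq_top with e | e
    · rw [e, mem_bot] at h; exact ht1 h
    · exact hna ⟨⟨fun a b => mem_center_iff.1 (e ▸ mem_top b) a⟩⟩
  by_cases hc : ∃ u : N, IsConj t u ∧ u ≠ t ∧ Commute t u
  · obtain ⟨u₀, hu₀, hu₀t, hu₀c⟩ := hc
    have hall : ∀ v : N, IsConj t v → Commute t v := by
      intro v hv
      by_cases hvt : v = t
      · rw [hvt]
      obtain ⟨c, hc, rfl⟩ := htr u₀ v hu₀ hu₀t hv hvt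
      have hct : c * t * c⁻¹ = t := by rw [mem_centralizer_singleton_iff.1 hc, mul_inv_cancel_right]
      have h1 := hu₀c.map (MulAut.conj c).toMonoidHom
      change Commute (c * t * c⁻¹) (c * u₀ * c⁻¹) at h1
      rwa [hct] at h1
    rcases (inferInstance : (normalClosure ({t} : Set N)).Normal).eq_bot_or_eq_top with e | e
    · exact ht1 (mem_bot.1 (e ▸ subset_normalClosure (Set.mem_singleton t)))
    · refine hcen (mem_center_iff.2 fun g => ?_)
      have hle : normalClosure ({t} : Set N) ≤ centralizer ({t} : Set N) := (closure_le _).2 fun v hv => by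
        obtain ⟨_, rfl, hv'⟩ := Group.mem_conjugatesOfSet_iff.1 hv
        exact mem_centralizer_singleton_iff.2 (hall v hv').eq.symm
      exact mem_centralizer_singleton_iff.1 (hle (e ▸ mem_top g))
  push Not at hc
  have hz := CfsgLib.Invol.zstar (z := t) ⟨ht, fun g hg => by
    by_contra hne
    exact hc _ (isConj_iff.2 ⟨g, rfl⟩) hne hg⟩
  have hO : Cfsg.pPrimeCore 2 N = ⊥ := by
    haveI := CfsgLib.Coprime.pPrimeCore_characteristic (G := N) 2
    rcases (inferInstance : (Cfsg.pPrimeCore 2 N).Normal).eq_bot_or_eq_top with e | e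
    · exact e
    · refine absurd (ht ▸ orderOf_dvd_natCard t) ?_
      rw [← Nat.card_congr Subgroup.topEquiv.toEquiv, ← e]
      exact CfsgLib.Coprime.pPrimeCore_not_dvd Nat.prime_two
  refine hcen (mem_center_iff.2 fun g => ?_)
  have h1 := hz g
  rw [hO, mem_bot] at h1
  exact (mul_inv_eq_iff_eq_mul.1 (mul_inv_eq_one.1 h1)).symm

namespace Fpf

variable {x : G ⧸ H} {L P : Subgroup G} {s : ℕ} {z t w : G} (F : Fpf H x L P s z t w)
include F

/-- The case of a regular `P`, given the stabilizers. -/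
theorem false_of_free_of_stab (hfree : ∀ a ∈ P, Commute a t → a = 1)
    (hstab : ∃ C0 : Subgroup G, C0 ≤ F.stabT ∧ F.stabT ≤ normalizer (C0 : Set G) ∧
      ∀ a ∈ P ⊓ involGen H, a ≠ 1 → F.stabT ⊓ centralizer ({a} : Set G) ≤ C0 ∧
        (IsMulCommutative ↥(F.stabT ⊓ centralizer ({a} : Set G)) ∨
          F.stabT ⊓ centralizer ({a} : Set G) = C0)) : False := by
  obtain ⟨C0, hC0, hC0n, hst⟩ := hstab
  haveI := F.isSimple
  set N := involGen H with hN
  set t' : N := ⟨t, F.t_mem_involGen⟩ with ht'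
  have ht'o : orderOf t' = 2 := by rw [← Subgroup.orderOf_coe]; exact F.t_order
  set M : Subgroup N := P.subgroupOf N with hM
  haveI hMc : IsMulCommutative M :=
    ⟨⟨fun a b => Subtype.ext (Subtype.ext (F.commute_P hfree a.2 b.2).eq)⟩⟩
  have hMne : ∃ a ∈ M, a ≠ 1 := by
    by_contra hall
    push Not at hall
    refine F.not_commutative ?_
    rcases (inferInstance : (center N).Normal).eq_bot_or_eq_top with e | e
    · exfalso
      refine CfsgLib.Invol.invol_ne_one ht'o (mem_bot.1 (e ▸ mem_center_iff.2 fun g => ?_ : t' ∈ ⊥))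
      obtain ⟨a, ha, hag⟩ := F.exists_conj_inf g.2
      have ha1 : a = 1 := congrArg Subtype.val (hall ⟨a, ha.2⟩ ha.1)
      rw [ha1, one_mul, inv_one, mul_one] at hag
      exact Subtype.ext (mul_inv_eq_iff_eq_mul.1 hag.symm)
    · exact ⟨⟨fun a b => mem_center_iff.1 (e ▸ mem_top b) a⟩⟩
  have hnorm : ∀ g : N, g ∈ normalizer (M : Set N) ↔ (g : G) ∈ pairStab (base H) x := by
    intro g
    refine ⟨fun hg => ?_, fun hg => mem_normalizer_fintype fun a ha =>
      (mem_normalizer_iff.1 (F.pair_le_normalizer hfree hg) (a : G)).1 ha⟩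
    obtain ⟨a, ha, ha1⟩ := hMne
    exact F.mem_pair_of_conj hfree (involGen_le H g.2) ha (fun e => ha1 (Subtype.ext e))
      ((mem_normalizer_iff.1 hg a).1 ha)
  set C : Subgroup N := normalizer (M : Set N) ⊓ centralizer ({t'} : Set N) with hC
  have hCG : C = F.stabT.subgroupOf N := by
    ext g
    rw [hC, mem_inf, hnorm, mem_centralizer_singleton_iff, mem_subgroupOf]
    exact ⟨fun h => ⟨⟨g.2, h.1⟩, mem_centralizer_singleton_iff.2 (congrArg Subtype.val h.2)⟩,
      fun h => ⟨h.1.2, Subtype.ext (mem_centralizer_singleton_iff.1 h.2)⟩⟩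
  have hstabN : F.stabT ≤ N := inf_le_left.trans inf_le_left
  have hCcard : Nat.card C = Nat.card F.stabT := by
    rw [hCG, Nat.card_congr (subgroupOfEquivOfLe hstabN).toEquiv]
  have hC2 : Odd (Nat.card C) := hCcard ▸
    (odd_pairStab F.setting.se F.ne.symm).of_dvd_nat (card_dvd_of_le (inf_le_left.trans inf_le_right))
  have hMcard : Nat.card M ∣ Nat.card P := by
    rw [hM, ← card_map_of_injective N.subtype_injective, subgroupOf_map_subtype]
    exact card_dvd_of_le inf_le_left
  have hM2 : Odd (Nat.card M) := F.odd_P.of_dvd_nat hMcard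
  have hcop : (Nat.card M).Coprime (Nat.card C) := by
    refine Nat.coprime_of_dvd fun r hr hrM hrC => ?_
    haveI : Fact r.Prime := ⟨hr⟩
    obtain ⟨c, hc⟩ := exists_prime_orderOf_dvd_card' (G := F.stabT) r (hCcard ▸ hrC)
    refine F.eq_one_of_prime_order hfree c.2 (by rw [Subgroup.orderOf_coe, hc]; exact hr) ?_
    rw [Subgroup.orderOf_coe, hc, ← F.card_P hfree]
    exact hrM.trans hMcard
  have hconj : ∀ u : N, IsConj t' u → orderOf (u : G) = 2 ∧ ∃ n : N, (n : G) * t * (n : G)⁻¹ = u := by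
    intro u hu
    obtain ⟨n, rfl⟩ := isConj_iff.1 hu
    exact ⟨CfsgLib.Invol.invol_conj F.t_order _, n, rfl⟩
  refine false_of_class_dichotomy F.not_commutative ht'o
    (centralizer_trans ht'o M C (C0.subgroupOf N) hM2 hC2 rfl hcop (fun u hu => ?_) (fun g a ha ha1 hga => ?_)
      (fun a u ha ha1 hu hau => ?_) ?_ ?_ fun a ha ha1 => ?_)
  · obtain ⟨-, n, hn⟩ := hconj u hu
    obtain ⟨a, ha, hat⟩ := F.exists_conj_inf n.2
    refine ⟨⟨a, ha.2⟩, ⟨ha.1, Subtype.ext (hat.trans hn)⟩, ?_⟩
    rintro ⟨a', ha'N⟩ ⟨ha', he⟩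
    have he' : a' * t * a'⁻¹ = (u : G) := congrArg Subtype.val he
    refine Subtype.ext (inv_mul_eq_one.1 (hfree (a'⁻¹ * a)
      (P.mul_mem (P.inv_mem ha') ha.1) (mul_inv_eq_iff_eq_mul.1 ?_)))
    show a'⁻¹ * a * t * (a'⁻¹ * a)⁻¹ = t
    calc a'⁻¹ * a * t * (a'⁻¹ * a)⁻¹ = a'⁻¹ * (a * t * a⁻¹) * a' := by group
      _ = a'⁻¹ * (a' * t * a'⁻¹) * a' := by rw [hat, hn, he']
      _ = t := by group
  · exact (hnorm g).2 (F.mem_pair_of_conj hfree (involGen_le H g.2) ha
      (fun e => ha1 (Subtype.ext e)) hga)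
  · exact F.not_commute_invol hfree ha (fun e => ha1 (Subtype.ext e)) (hconj u hu).1
      (congrArg Subtype.val hau)
  · rw [hCG]; exact comap_mono hC0
  · rw [hCG]
    exact fun c hc => mem_normalizer_fintype fun y hy => (mem_normalizer_iff.1 (hC0n hc) (y : G)).1 hy
  · obtain ⟨h1, h2⟩ := hst a ⟨ha, a.2⟩ (fun e => ha1 (Subtype.ext e))
    have hinf : C ⊓ centralizer ({a} : Set N) =
        (F.stabT ⊓ centralizer ({(a : G)} : Set G)).subgroupOf N := by
      ext g
      rw [hCG, mem_inf, mem_subgroupOf, mem_subgroupOf, mem_inf, mem_centralizer_singleton_iff,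
        mem_centralizer_singleton_iff]
      exact and_congr_right fun _ => ⟨fun e => congrArg Subtype.val e, fun e => Subtype.ext e⟩
    refine ⟨hinf ▸ comap_mono h1, h2.imp (fun h => ?_) fun h => by rw [hinf, h]⟩
    rw [hinf]
    exact ⟨⟨fun u v => Subtype.ext (Subtype.ext
      (show ((u : N) : G) * ((v : N) : G) = ((v : N) : G) * ((u : N) : G) from
        congrArg Subtype.val (h.is_comm.comm ⟨((u : N) : G), u.2⟩ ⟨((v : N) : G), v.2⟩)))⟩⟩

end Fpf

end CfsgLib.Bender.Full
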